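import Mathlib.RingTheory.TensorProduct.Maps
import Mathlib.RingTheory.RingHom.Flat
import Mathlib.RingTheory.Flat.Basic

/-!
# Push-outs of commutative rings, on points

`PO f g` : the push-out of `f : A → B`, `g : A → C` with its universal property; injectivity when `g` is flat.
-/

set_option autoImplicit false

universe u

open TensorProduct

namespace Groth.Agent.ResProp.EF.K726

variable {A B C : Type u} [CommRing A] [CommRing B] [CommRing C]

/-- push-out data -/
structure PO (f : A →+* B) (g : A →+* C) where
  P : Type u
  [commRing : CommRing P]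
  i₁ : B →+* P
  i₂ : C →+* P
  comm : i₁.comp f = i₂.comp g
  desc : ∀ {T : Type u} [CommRing T] (b : B →+* T) (c : C →+* T), b.comp f = c.comp g → (P →+* T)
  desc₁ : ∀ {T : Type u} [CommRing T] (b : B →+* T) (c : C →+* T) (h : b.comp f = c.comp g),
    (desc b c h).comp i₁ = b
  desc₂ : ∀ {T : Type u} [CommRing T] (b : B →+* T) (c : C →+* T) (h : b.comp f = c.comp g),
    (desc b c h).comp i₂ = c
  ext : ∀ {T : Type u} [CommRing T] (u v : P →+* T), u.comp i₁ = v.comp i₁ → u.comp i₂ = v.comp i₂ → u = v

attribute [instance] PO.commRing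

/-- the push-out -/
noncomputable def po (f : A →+* B) (g : A →+* C) : PO f g :=
  letI := f.toAlgebra
  letI := g.toAlgebra
  { P := B ⊗[A] C
    i₁ := (Algebra.TensorProduct.includeLeft (R := A) (S := A) (A := B) (B := C)).toRingHom
    i₂ := (Algebra.TensorProduct.includeRight (R := A) (A := B) (B := C)).toRingHom
    comm := by
      ext a
      show (algebraMap A B a) ⊗ₜ[A] (1 : C) = (1 : B) ⊗ₜ[A] (algebraMap A C a)
      rw [Algebra.algebraMap_eq_smul_one, Algebra.algebraMap_eq_smul_one, TensorProduct.smul_tmul]
    desc := fun {T} _ b c h =>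
      letI := (b.comp f).toAlgebra
      (Algebra.TensorProduct.lift (R := A) (S := A) (A := B) (B := C) (C := T)
        { b with commutes' := fun _ => rfl }
        { c with commutes' := fun a => (RingHom.congr_fun h a).symm } (fun _ _ => Commute.all _ _)).toRingHom
    desc₁ := by
      intro T _ b c h
      ext x
      letI := (b.comp f).toAlgebra
      show b x * c 1 = b x
      rw [map_one, mul_one]
    desc₂ := by
      intro T _ b c h
      ext x
      letI := (b.comp f).toAlgebra
      show b 1 * c x = c x
      rw [map_one, one_mul]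
    ext := by
      intro T _ u v h₁ h₂
      apply RingHom.ext
      intro z
      induction z using TensorProduct.induction_on with
      | zero => rw [map_zero, map_zero]
      | add x y hx hy => rw [map_add, map_add, hx, hy]
      | tmul x y =>
        have e : x ⊗ₜ[A] y = (x ⊗ₜ[A] (1 : C)) * ((1 : B) ⊗ₜ[A] y) := by
          rw [Algebra.TensorProduct.tmul_mul_tmul, mul_one, one_mul]
        rw [e, map_mul, map_mul]
        exact congrArg₂ (· * ·) (RingHom.congr_fun h₁ x) (RingHom.congr_fun h₂ y) }

/-- base change of an injection along a flat map -/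
theorem po_injective {B' : Type u} [CommRing B'] (f : A →+* B) (g : A →+* C) (hg : g.Flat) (j : B →+* B')
    (hj : Function.Injective j) :
    Function.Injective ((po f g).desc ((po (j.comp f) g).i₁.comp j) (po (j.comp f) g).i₂
      (by rw [RingHom.comp_assoc, (po (j.comp f) g).comm])) := by
  letI := f.toAlgebra
  letI := g.toAlgebra
  letI := (j.comp f).toAlgebra
  haveI : Module.Flat A C := hg
  let jl : B →ₗ[A] B' := { j with
    map_smul' := fun a b => by
      show j (f a * b) = j (f a) * j b
      exact map_mul j _ _ }
  have h := Module.Flat.rTensor_preserves_injective_linearMap (M := C) jl hj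
  have e : ∀ z : B ⊗[A] C, ((po f g).desc ((po (j.comp f) g).i₁.comp j) (po (j.comp f) g).i₂
      (by rw [RingHom.comp_assoc, (po (j.comp f) g).comm])) z = LinearMap.rTensor C jl z := by
    intro z
    induction z using TensorProduct.induction_on with
    | zero => exact (map_zero _).trans (map_zero _).symm
    | add x y hx hy => exact (map_add _ x y).trans ((congrArg₂ (· + ·) hx hy).trans (map_add _ x y).symm)
    | tmul x y =>
      have e' : x ⊗ₜ[A] y = (x ⊗ₜ[A] (1 : C)) * ((1 : B) ⊗ₜ[A] y) := by
        rw [Algebra.TensorProduct.tmul_mul_tmul, mul_one, one_mul]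
      have h₁ := RingHom.congr_fun ((po f g).desc₁ ((po (j.comp f) g).i₁.comp j) (po (j.comp f) g).i₂
        (by rw [RingHom.comp_assoc, (po (j.comp f) g).comm])) x
      have h₂ := RingHom.congr_fun ((po f g).desc₂ ((po (j.comp f) g).i₁.comp j) (po (j.comp f) g).i₂
        (by rw [RingHom.comp_assoc, (po (j.comp f) g).comm])) y
      have h₃ : ((po f g).desc ((po (j.comp f) g).i₁.comp j) (po (j.comp f) g).i₂
        (by rw [RingHom.comp_assoc, (po (j.comp f) g).comm])) (x ⊗ₜ[A] y) =
          (j x ⊗ₜ[A] (1 : C)) * ((1 : B') ⊗ₜ[A] y) := by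
        rw [e']
        exact (map_mul _ _ _).trans (congrArg₂ (· * ·) h₁ h₂)
      refine h₃.trans ?_
      rw [Algebra.TensorProduct.tmul_mul_tmul, mul_one, one_mul]
      rfl
  intro x y hxy
  exact h ((e x).symm.trans (hxy.trans (e y)))

end Groth.Agent.ResProp.EF.K726
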