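import Groth.Agent.ResProp.EF.K111.FrameAsm
import Groth.Agent.ResProp.EF.K726.PO

/-!
# The action of the groupoid on the frame ring (`K111.StmtFrameAct`)
-/

set_option autoImplicit false
set_option linter.unusedSectionVars false

universe u

open Groth.Agent.Grpsch.AffGrpd

namespace Groth.Agent.ResProp.EF.K726

open K743

/-! ### Groupoids -/

section Grpd

variable {A Γ : Type u} [CommRing A] [CommRing Γ] (G : RGrpd A Γ)

theorem comp_congr {T : Type u} [CommRing T] {α α' β β' : Γ →+* T} (h1 : α = α') (h2 : β = β')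
    (h : α.comp G.s = β.comp G.t) (h' : α'.comp G.s = β'.comp G.t) : G.comp α β h = G.comp α' β' h' := by
  subst h1 h2
  rfl

theorem inv_s {T : Type u} [CommRing T] (α : Γ →+* T) : (α.comp G.i).comp G.s = α.comp G.t := by
  rw [RingHom.comp_assoc, G.i_s]

theorem inv_t {T : Type u} [CommRing T] (α : Γ →+* T) : (α.comp G.i).comp G.t = α.comp G.s := by
  rw [RingHom.comp_assoc, G.i_t]

theorem id_s {T : Type u} [CommRing T] (a : A →+* T) : (a.comp G.e).comp G.s = a := by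
  rw [RingHom.comp_assoc, G.e_s, RingHom.comp_id]

theorem id_t {T : Type u} [CommRing T] (a : A →+* T) : (a.comp G.e).comp G.t = a := by
  rw [RingHom.comp_assoc, G.e_t, RingHom.comp_id]

theorem comp_id' {T : Type u} [CommRing T] (α : Γ →+* T) (a : A →+* T) (ha : a = α.comp G.s)
    (h : α.comp G.s = (a.comp G.e).comp G.t) : G.comp α (a.comp G.e) h = α := by
  subst ha
  exact G.comp_e α

theorem id_comp' {T : Type u} [CommRing T] (α : Γ →+* T) (a : A →+* T) (ha : a = α.comp G.t)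
    (h : (a.comp G.e).comp G.s = α.comp G.t) : G.comp (a.comp G.e) α h = α := by
  subst ha
  exact G.e_comp α

theorem inv_comp {T : Type u} [CommRing T] (α β : Γ →+* T) (h : α.comp G.s = β.comp G.t)
    (h' : (β.comp G.i).comp G.s = (α.comp G.i).comp G.t) :
    (G.comp α β h).comp G.i = G.comp (β.comp G.i) (α.comp G.i) h' := by
  set γ := G.comp α β h with hγ
  set Y := G.comp (β.comp G.i) (α.comp G.i) h' with hY
  have hYs : Y.comp G.s = α.comp G.t := by rw [hY, G.comp_s, inv_s]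
  have hYt : Y.comp G.t = β.comp G.s := by rw [hY, G.comp_t, inv_t]
  have hγs : γ.comp G.s = β.comp G.s := by rw [hγ, G.comp_s]
  have hγt : γ.comp G.t = α.comp G.t := by rw [hγ, G.comp_t]
  -- β (β⁻¹ α⁻¹) = α⁻¹
  have h1 : G.comp β Y (by rw [hYt]) = α.comp G.i := by
    have a1 := G.assoc β (β.comp G.i) (α.comp G.i) (by rw [inv_t]) h'
    rw [← a1, comp_congr G (G.comp_i β) rfl _ (by rw [id_s, inv_t, h])]
    exact id_comp' G _ _ (by rw [inv_t, h]) _
  have h2 : G.comp γ Y (by rw [hγs, hYt]) = (α.comp G.t).comp G.e := by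
    have a2 := G.assoc α β Y h (by rw [hYt])
    refine Eq.trans a2 ?_
    rw [comp_congr G rfl h1 _ (by rw [inv_t])]
    exact G.comp_i α
  have h3 : G.comp (γ.comp G.i) γ (by rw [inv_s]) = (γ.comp G.s).comp G.e := G.i_comp γ
  have a3 := G.assoc (γ.comp G.i) γ Y (by rw [inv_s]) (by rw [hγs, hYt])
  rw [comp_congr G h3 rfl _ (by rw [id_s, hγs, hYt]), comp_congr G rfl h2 _ (by rw [inv_s, id_t, hγt]),
    id_comp' G Y _ (by rw [hγs, hYt]), comp_id' G _ _ (by rw [inv_s, hγt])] at a3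
  exact a3.symm

end Grpd

/-- lifting a ring map through an injection -/
theorem exists_lift {D P Q : Type u} [CommRing D] [CommRing P] [CommRing Q] (J : P →+* Q)
    (hJ : Function.Injective J) (g : D →+* Q) (h : ∀ d, ∃ p, J p = g d) : ∃ Φ : D →+* P, J.comp Φ = g := by
  choose f hf using h
  have h1 : f 1 = 1 := hJ (by rw [hf, map_one, map_one])
  have h2 : ∀ a b, f (a * b) = f a * f b := fun a b => hJ (by rw [hf, map_mul, map_mul, hf, hf])
  have h3 : f 0 = 0 := hJ (by rw [hf, map_zero, map_zero])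
  have h4 : ∀ a b, f (a + b) = f a + f b := fun a b => hJ (by rw [hf, map_add, map_add, hf, hf])
  exact ⟨⟨⟨⟨f, h1⟩, h2⟩, h3, h4⟩, RingHom.ext hf⟩

section Main

variable {A Γ : Type u} [CommRing A] [CommRing Γ] {G : RGrpd A Γ} {X : Gens G} {m : ℕ}

theorem frame_ext (F : FrameData G X m) {T : Type u} [CommRing T] {φ ψ : F.D →+* T} (h1 : φ.comp F.ι = ψ.comp F.ι)
    (h2 : ∀ j a, φ (F.Q₁ j a) = ψ (F.Q₁ j a)) (h3 : ∀ κ b, φ (F.μ κ b) = ψ (F.μ κ b)) : φ = ψ := by
  apply RingHom.eq_of_eqOn_set_dense F.gen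
  rintro z ((⟨a, rfl⟩ | ⟨p, rfl⟩) | ⟨p, rfl⟩)
  · exact RingHom.congr_fun h1 a
  · exact h2 p.1 p.2
  · exact h3 p.1 p.2

variable {K : Type u} [Field K] {x : A →+* K} (P : PtData G X m x) (R : LRing G x P.r₁ P.r₂)

/-- the coaction matrices are multiplicative on the orbit -/
theorem c_comp {T : Type u} [CommRing T] (y : K →+* T) (γ : Γ →+* T) (hγ : γ.comp G.s = y.comp x) (σ : Γ →+* T)
    (hσ : σ.comp G.s = γ.comp G.t) (j : Fin X.n) (a : Fin P.r₁) :
    ∑ k, (G.comp σ γ hσ) (G.i (X.c k j)) * y (P.V₁ k a) =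
      ∑ p, σ (G.i (X.c p j)) * ∑ k, γ (G.i (X.c k p)) * y (P.V₁ k a) := by
  have key := P.inj₁ y (fun a => ∑ k, (G.comp σ γ hσ) (G.i (X.c k j)) * y (P.V₁ k a) -
      ∑ p, σ (G.i (X.c p j)) * ∑ k, γ (G.i (X.c k p)) * y (P.V₁ k a)) (by
    intro T' _ f h e
    have hh : ∀ k, h (X.x k) = ∑ a, P.w₁ (f.comp y) h e a * f (y (P.V₁ k a)) := fun k => P.hw₁ (f.comp y) h e k
    have hfγ : (f.comp γ).comp G.s = h.comp G.s := by rw [e, RingHom.comp_assoc, hγ, RingHom.comp_assoc]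
    have hfσ : (f.comp σ).comp G.s = (f.comp γ).comp G.t := by rw [RingHom.comp_assoc, hσ, RingHom.comp_assoc]
    have nat : f.comp (G.comp σ γ hσ) = G.comp (f.comp σ) (f.comp γ) hfσ := G.comp_nat f σ γ hσ
    -- left side
    have L1 : ∑ a, P.w₁ (f.comp y) h e a * f (∑ k, (G.comp σ γ hσ) (G.i (X.c k j)) * y (P.V₁ k a)) =
        ∑ k, h (X.x k) * ((G.comp (f.comp σ) (f.comp γ) hfσ).comp G.i) (X.c k j) := by
      simp only [map_sum, map_mul, Finset.mul_sum]
      rw [Finset.sum_comm]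
      refine Finset.sum_congr rfl fun k _ => ?_
      rw [hh k, Finset.sum_mul]
      refine Finset.sum_congr rfl fun a _ => ?_
      have : f ((G.comp σ γ hσ) (G.i (X.c k j))) = ((G.comp (f.comp σ) (f.comp γ) hfσ).comp G.i) (X.c k j) := by
        rw [← nat]; rfl
      rw [this]
      ring
    have L2 : ∑ a, P.w₁ (f.comp y) h e a * f (∑ p, σ (G.i (X.c p j)) * ∑ k, γ (G.i (X.c k p)) * y (P.V₁ k a)) =
        ∑ p, (∑ k, h (X.x k) * ((f.comp γ).comp G.i) (X.c k p)) * ((f.comp σ).comp G.i) (X.c p j) := by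
      simp only [map_sum, map_mul, Finset.mul_sum, Finset.sum_mul]
      rw [Finset.sum_comm]
      refine Finset.sum_congr rfl fun p _ => ?_
      rw [Finset.sum_comm]
      refine Finset.sum_congr rfl fun k _ => ?_
      rw [hh k, Finset.sum_mul, Finset.sum_mul]
      refine Finset.sum_congr rfl fun a _ => ?_
      simp only [RingHom.comp_apply]
      ring
    have e1 : h.comp G.s = ((G.comp (f.comp σ) (f.comp γ) hfσ).comp G.i).comp G.t := by
      rw [inv_t, G.comp_s, hfγ]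
    have e2 : h.comp G.s = ((f.comp γ).comp G.i).comp G.t := by rw [inv_t, hfγ]
    have e3 : (G.comp h ((f.comp γ).comp G.i) e2).comp G.s = ((f.comp σ).comp G.i).comp G.t := by
      rw [G.comp_s, inv_s, inv_t, hfσ]
    have M1 := X.hc h ((G.comp (f.comp σ) (f.comp γ) hfσ).comp G.i) e1 j
    have M2 := X.hc (G.comp h ((f.comp γ).comp G.i) e2) ((f.comp σ).comp G.i) e3 j
    simp only [X.hc h ((f.comp γ).comp G.i) e2] at M2
    have M3 : G.comp h ((G.comp (f.comp σ) (f.comp γ) hfσ).comp G.i) e1 =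
        G.comp (G.comp h ((f.comp γ).comp G.i) e2) ((f.comp σ).comp G.i) e3 := by
      have e4 : ((f.comp γ).comp G.i).comp G.s = ((f.comp σ).comp G.i).comp G.t := by rw [inv_s, inv_t, hfσ]
      rw [G.assoc h ((f.comp γ).comp G.i) ((f.comp σ).comp G.i) e2 e4]
      exact comp_congr G rfl (inv_comp G _ _ hfσ e4) _ _
    have M4 : ∑ a, P.w₁ (f.comp y) h e a * f (∑ k, (G.comp σ γ hσ) (G.i (X.c k j)) * y (P.V₁ k a)) =
        ∑ a, P.w₁ (f.comp y) h e a * f (∑ p, σ (G.i (X.c p j)) * ∑ k, γ (G.i (X.c k p)) * y (P.V₁ k a)) := by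
      rw [L1, L2, ← M1, ← M2, M3]
    simp only [map_sub, mul_sub, Finset.sum_sub_distrib]
    rw [M4, sub_self])
  exact sub_eq_zero.1 (congrFun key a)

/-- the action on `L`-points -/
noncomputable def mv {T : Type u} [CommRing T] (σ : Γ →+* T) (ψ : R.L →+* T)
    (h : σ.comp G.s = (ψ.comp R.γ).comp G.t) : R.L →+* T :=
  R.lift (ψ.comp R.y) (G.comp σ (ψ.comp R.γ) h)
    (by rw [G.comp_s, RingHom.comp_assoc, R.hγ, RingHom.comp_assoc])
    (Matrix.GeneralLinearGroup.map ψ R.l₁) (Matrix.GeneralLinearGroup.map ψ R.l₂)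

variable {T : Type u} [CommRing T] (σ : Γ →+* T) (ψ : R.L →+* T) (h : σ.comp G.s = (ψ.comp R.γ).comp G.t)

theorem mv_y : (mv P R σ ψ h).comp R.y = ψ.comp R.y := R.lift_y _ _ _ _ _

theorem mv_γ : (mv P R σ ψ h).comp R.γ = G.comp σ (ψ.comp R.γ) h := R.lift_γ _ _ _ _ _

theorem mv_l₁ (i j : Fin P.r₁) : mv P R σ ψ h (R.l₁.1 i j) = ψ (R.l₁.1 i j) := R.lift_l₁ _ _ _ _ _ _ _

theorem mv_l₂ (i j : Fin P.r₂) : mv P R σ ψ h (R.l₂.1 i j) = ψ (R.l₂.1 i j) := R.lift_l₂ _ _ _ _ _ _ _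

theorem mv_l₁_inv (i j : Fin P.r₁) : mv P R σ ψ h ((R.l₁⁻¹).1 i j) = ψ ((R.l₁⁻¹).1 i j) := by
  have e : Matrix.GeneralLinearGroup.map (mv P R σ ψ h) R.l₁ = Matrix.GeneralLinearGroup.map ψ R.l₁ := by
    apply Units.ext
    ext i j
    exact mv_l₁ P R σ ψ h i j
  have e' : Matrix.GeneralLinearGroup.map (mv P R σ ψ h) R.l₁⁻¹ = Matrix.GeneralLinearGroup.map ψ R.l₁⁻¹ := by
    rw [map_inv, map_inv, e]
  exact congrArg (fun g : Matrix.GeneralLinearGroup (Fin P.r₁) T => g.1 i j) e'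

theorem mv_μ (κ : Fin m → Fin P.r₁) (b : Fin P.r₂) :
    mv P R σ ψ h (LRing.μL P R κ b) = ψ (LRing.μL P R κ b) := by
  simp only [LRing.μL, map_sum, map_mul, map_prod, mv_l₂, mv_l₁_inv]
  refine Finset.sum_congr rfl fun b' _ => Finset.sum_congr rfl fun κ' _ => ?_
  rw [show mv P R σ ψ h (R.y (P.μ₀ κ' b')) = ψ (R.y (P.μ₀ κ' b')) from RingHom.congr_fun (mv_y P R σ ψ h) _]

theorem mv_Q₁ (j : Fin X.n) (a : Fin P.r₁) :
    mv P R σ ψ h (LRing.Q₁L P R j a) = ∑ k, σ (G.i (X.c k j)) * ψ (LRing.Q₁L P R k a) := by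
  have key := fun a' => c_comp P (ψ.comp R.y) (ψ.comp R.γ)
    (by rw [RingHom.comp_assoc, R.hγ, RingHom.comp_assoc]) σ h j a'
  have e1 : mv P R σ ψ h (LRing.Q₁L P R j a) =
      ∑ a', ψ (R.l₁.1 a a') * ∑ k, (G.comp σ (ψ.comp R.γ) h) (G.i (X.c k j)) * (ψ.comp R.y) (P.V₁ k a') := by
    simp only [LRing.Q₁L, map_sum, map_mul, mv_l₁, Finset.mul_sum]
    rw [Finset.sum_comm]
    refine Finset.sum_congr rfl fun a' _ => Finset.sum_congr rfl fun k _ => ?_
    rw [show mv P R σ ψ h (R.y (P.V₁ k a')) = (ψ.comp R.y) (P.V₁ k a') from RingHom.congr_fun (mv_y P R σ ψ h) _,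
      show mv P R σ ψ h (R.γ (G.i (X.c k j))) = (G.comp σ (ψ.comp R.γ) h) (G.i (X.c k j)) from
        RingHom.congr_fun (mv_γ P R σ ψ h) _]
    ring
  rw [e1]
  simp only [key]
  simp only [LRing.Q₁L, map_sum, map_mul, Finset.mul_sum, RingHom.comp_apply]
  rw [Finset.sum_comm]
  refine Finset.sum_congr rfl fun p _ => ?_
  rw [Finset.sum_comm]
  refine Finset.sum_congr rfl fun k _ => Finset.sum_congr rfl fun a' _ => ?_
  ring

theorem mv_id (h : ((ψ.comp R.γ).comp G.t).comp G.e = σ) (h' : σ.comp G.s = (ψ.comp R.γ).comp G.t) :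
    mv P R σ ψ h' = ψ := by
  apply R.ext
  · exact mv_y P R σ ψ h'
  · subst h
    rw [mv_γ]
    exact id_comp' G _ _ rfl _
  · intro i j; exact mv_l₁ P R σ ψ h' i j
  · intro i j; exact mv_l₂ P R σ ψ h' i j

theorem mv_comp (α β : Γ →+* T) (ψ : R.L →+* T) (hβ : β.comp G.s = (ψ.comp R.γ).comp G.t)
    (hα : α.comp G.s = β.comp G.t) (h1 : (G.comp α β hα).comp G.s = (ψ.comp R.γ).comp G.t)
    (h2 : α.comp G.s = ((mv P R β ψ hβ).comp R.γ).comp G.t) :
    mv P R (G.comp α β hα) ψ h1 = mv P R α (mv P R β ψ hβ) h2 := by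
  apply R.ext
  · rw [mv_y, mv_y, mv_y]
  · rw [mv_γ, mv_γ]
    rw [G.assoc α β (ψ.comp R.γ) hα hβ]
    exact comp_congr G rfl (mv_γ P R β ψ hβ).symm _ _
  · intro i j; rw [mv_l₁, mv_l₁, mv_l₁]
  · intro i j; rw [mv_l₂, mv_l₂, mv_l₂]

end Main

section Frame

variable {A Γ : Type u} [CommRing A] [CommRing Γ] {G : RGrpd A Γ} {X : Gens G} {m : ℕ}
variable {K : Type u} [Field K] {x : A →+* K} (P : PtData G X m x) (R : LRing G x P.r₁ P.r₂)

/-- the inclusion of the frame ring -/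
noncomputable def jj : (LRing.frameData P R).D →+* R.L := (LRing.DL P R).subtype

theorem jj_injective : Function.Injective (jj P R) := Subtype.val_injective

theorem jj_ι : (jj P R).comp (LRing.frameData P R).ι = R.γ.comp G.t := rfl

theorem jj_Q₁ (j : Fin X.n) (a : Fin P.r₁) : jj P R ((LRing.frameData P R).Q₁ j a) = LRing.Q₁L P R j a := rfl

theorem jj_μ (κ : Fin m → Fin P.r₁) (b : Fin P.r₂) : jj P R ((LRing.frameData P R).μ κ b) = LRing.μL P R κ b := rfl

/-- `D ⊗_A Γ` -/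
noncomputable def D2 : PO (LRing.frameData P R).ι G.s := po _ _

/-- `L ⊗_A Γ` -/
noncomputable def L2 : PO ((jj P R).comp (LRing.frameData P R).ι) G.s := po _ _

theorem J2_cond : ((L2 P R).i₁.comp (jj P R)).comp (LRing.frameData P R).ι = (L2 P R).i₂.comp G.s := by
  rw [RingHom.comp_assoc, (L2 P R).comm]

/-- `D ⊗_A Γ → L ⊗_A Γ` -/
noncomputable def J2 : (D2 P R).P →+* (L2 P R).P :=
  (D2 P R).desc ((L2 P R).i₁.comp (jj P R)) (L2 P R).i₂ (J2_cond P R)

theorem J2_injective (hs : G.s.Flat) : Function.Injective (J2 P R) :=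
  po_injective _ _ hs _ (jj_injective P R)

theorem J2_i₁ : (J2 P R).comp (D2 P R).i₁ = (L2 P R).i₁.comp (jj P R) := (D2 P R).desc₁ _ _ _

theorem J2_i₂ : (J2 P R).comp (D2 P R).i₂ = (L2 P R).i₂ := (D2 P R).desc₂ _ _ _

theorem exists_Φ (hs : G.s.Flat) : ∃ Φ : (LRing.frameData P R).D →+* (D2 P R).P,
    (∀ a, Φ ((LRing.frameData P R).ι a) = (D2 P R).i₂ (G.t a)) ∧
    (∀ j a, Φ ((LRing.frameData P R).Q₁ j a) =
      ∑ k, (D2 P R).i₂ (G.i (X.c k j)) * (D2 P R).i₁ ((LRing.frameData P R).Q₁ k a)) ∧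
    (∀ κ b, Φ ((LRing.frameData P R).μ κ b) = (D2 P R).i₁ ((LRing.frameData P R).μ κ b)) := by
  have hσ : (L2 P R).i₂.comp G.s = ((L2 P R).i₁.comp R.γ).comp G.t := by
    rw [← (L2 P R).comm]
    rfl
  have hinj := J2_injective P R hs
  have c1 : ∀ d, J2 P R ((D2 P R).i₁ d) = (L2 P R).i₁ (jj P R d) := RingHom.congr_fun (J2_i₁ P R)
  have c2 : ∀ d, J2 P R ((D2 P R).i₂ d) = (L2 P R).i₂ d := RingHom.congr_fun (J2_i₂ P R)
  -- the values on the generators
  have g1 : ∀ a, mv P R (L2 P R).i₂ (L2 P R).i₁ hσ (jj P R ((LRing.frameData P R).ι a)) =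
      J2 P R ((D2 P R).i₂ (G.t a)) := by
    intro a
    rw [c2]
    have e := mv_γ P R (L2 P R).i₂ (L2 P R).i₁ hσ
    have e' : ((mv P R (L2 P R).i₂ (L2 P R).i₁ hσ).comp R.γ).comp G.t = (L2 P R).i₂.comp G.t := by
      rw [e, G.comp_t]
    exact RingHom.congr_fun e' a
  have g2 : ∀ j a, mv P R (L2 P R).i₂ (L2 P R).i₁ hσ (jj P R ((LRing.frameData P R).Q₁ j a)) =
      J2 P R (∑ k, (D2 P R).i₂ (G.i (X.c k j)) * (D2 P R).i₁ ((LRing.frameData P R).Q₁ k a)) := by
    intro j a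
    rw [map_sum]
    refine (mv_Q₁ P R _ _ hσ j a).trans (Finset.sum_congr rfl fun k _ => ?_)
    rw [map_mul, c1, c2]
    rfl
  have g3 : ∀ κ b, mv P R (L2 P R).i₂ (L2 P R).i₁ hσ (jj P R ((LRing.frameData P R).μ κ b)) =
      J2 P R ((D2 P R).i₁ ((LRing.frameData P R).μ κ b)) := by
    intro κ b
    rw [c1]
    exact mv_μ P R _ _ hσ κ b
  obtain ⟨Φ, hΦ⟩ := exists_lift (J2 P R) hinj ((mv P R (L2 P R).i₂ (L2 P R).i₁ hσ).comp (jj P R)) (by
    have hle : (⊤ : Subring (LRing.frameData P R).D) ≤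
        (J2 P R).range.comap ((mv P R (L2 P R).i₂ (L2 P R).i₁ hσ).comp (jj P R)) := by
      rw [← (LRing.frameData P R).gen, Subring.closure_le]
      rintro z ((⟨a, rfl⟩ | ⟨p, rfl⟩) | ⟨p, rfl⟩)
      · exact ⟨_, (g1 a).symm⟩
      · exact ⟨_, (g2 p.1 p.2).symm⟩
      · exact ⟨_, (g3 p.1 p.2).symm⟩
    intro d
    exact hle (Subring.mem_top d))
  have hΦ' : ∀ d, J2 P R (Φ d) = mv P R (L2 P R).i₂ (L2 P R).i₁ hσ (jj P R d) := RingHom.congr_fun hΦ
  refine ⟨Φ, fun a => hinj ?_, fun j a => hinj ?_, fun κ b => hinj ?_⟩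
  · rw [hΦ', g1]
  · rw [hΦ', g2]
  · rw [hΦ', g3]

variable (hs : G.s.Flat)

/-- the coaction of the frame ring -/
noncomputable def Φ : (LRing.frameData P R).D →+* (D2 P R).P := (exists_Φ P R hs).choose

variable {T : Type u} [CommRing T]

/-- the action on points of the frame ring -/
noncomputable def actD (σ : Γ →+* T) (φ : (LRing.frameData P R).D →+* T)
    (h : σ.comp G.s = φ.comp (LRing.frameData P R).ι) : (LRing.frameData P R).D →+* T :=
  ((D2 P R).desc φ σ h.symm).comp (Φ P R hs)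

variable (σ : Γ →+* T) (φ : (LRing.frameData P R).D →+* T) (h : σ.comp G.s = φ.comp (LRing.frameData P R).ι)

theorem actD_ι : (actD P R hs σ φ h).comp (LRing.frameData P R).ι = σ.comp G.t := by
  ext a
  show (D2 P R).desc φ σ h.symm (Φ P R hs ((LRing.frameData P R).ι a)) = _
  rw [(exists_Φ P R hs).choose_spec.1 a |> fun e => (show Φ P R hs _ = _ from e)]
  exact RingHom.congr_fun ((D2 P R).desc₂ φ σ h.symm) _

theorem actD_Q₁ (j : Fin X.n) (a : Fin P.r₁) : actD P R hs σ φ h ((LRing.frameData P R).Q₁ j a) =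
    ∑ k, σ (G.i (X.c k j)) * φ ((LRing.frameData P R).Q₁ k a) := by
  show (D2 P R).desc φ σ h.symm (Φ P R hs ((LRing.frameData P R).Q₁ j a)) = _
  have e : Φ P R hs ((LRing.frameData P R).Q₁ j a) = _ := (exists_Φ P R hs).choose_spec.2.1 j a
  rw [e, map_sum]
  refine Finset.sum_congr rfl fun k _ => ?_
  rw [map_mul]
  exact congrArg₂ (· * ·) (RingHom.congr_fun ((D2 P R).desc₂ φ σ h.symm) _)
    (RingHom.congr_fun ((D2 P R).desc₁ φ σ h.symm) _)

theorem actD_μ (κ : Fin m → Fin P.r₁) (b : Fin P.r₂) : actD P R hs σ φ h ((LRing.frameData P R).μ κ b) =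
    φ ((LRing.frameData P R).μ κ b) := by
  show (D2 P R).desc φ σ h.symm (Φ P R hs ((LRing.frameData P R).μ κ b)) = _
  have e : Φ P R hs ((LRing.frameData P R).μ κ b) = _ := (exists_Φ P R hs).choose_spec.2.2 κ b
  rw [e]
  exact RingHom.congr_fun ((D2 P R).desc₁ φ σ h.symm) _

theorem actD_congr {σ σ' : Γ →+* T} {φ φ' : (LRing.frameData P R).D →+* T} (h1 : σ = σ') (h2 : φ = φ')
    (h : σ.comp G.s = φ.comp (LRing.frameData P R).ι) (h' : σ'.comp G.s = φ'.comp (LRing.frameData P R).ι) :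
    actD P R hs σ φ h = actD P R hs σ' φ' h' := by
  subst h1 h2
  rfl

theorem actD_nat {T' : Type u} [CommRing T'] (f : T →+* T')
    (h' : (f.comp σ).comp G.s = (f.comp φ).comp (LRing.frameData P R).ι) :
    f.comp (actD P R hs σ φ h) = actD P R hs (f.comp σ) (f.comp φ) h' := by
  apply frame_ext
  · rw [RingHom.comp_assoc, actD_ι, actD_ι, RingHom.comp_assoc]
  · intro j a
    rw [RingHom.comp_apply, actD_Q₁, actD_Q₁, map_sum]
    exact Finset.sum_congr rfl fun k _ => map_mul f _ _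
  · intro κ b
    rw [RingHom.comp_apply, actD_μ, actD_μ]
    rfl

theorem actD_L (ψ : R.L →+* T) (h : σ.comp G.s = (ψ.comp (jj P R)).comp (LRing.frameData P R).ι)
    (h' : σ.comp G.s = (ψ.comp R.γ).comp G.t) :
    actD P R hs σ (ψ.comp (jj P R)) h = (mv P R σ ψ h').comp (jj P R) := by
  apply frame_ext
  · rw [actD_ι, RingHom.comp_assoc, jj_ι, ← RingHom.comp_assoc, mv_γ, G.comp_t]
  · intro j a
    rw [actD_Q₁]
    exact (mv_Q₁ P R σ ψ h' j a).symm
  · intro κ b
    rw [actD_μ]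
    exact (mv_μ P R σ ψ h' κ b).symm

theorem actD_id (φ : (LRing.frameData P R).D →+* T)
    (h : ((φ.comp (LRing.frameData P R).ι).comp G.e).comp G.s = φ.comp (LRing.frameData P R).ι) :
    actD P R hs ((φ.comp (LRing.frameData P R).ι).comp G.e) φ h = φ := by
  have h0 : (((LRing.frameData P R).ι).comp G.e).comp G.s =
      (RingHom.id _).comp (LRing.frameData P R).ι := by
    rw [id_s, RingHom.id_comp]
  have h1 : actD P R hs (((LRing.frameData P R).ι).comp G.e) (RingHom.id _) h0 = RingHom.id _ := by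
    have h2 : ((jj P R).comp (((LRing.frameData P R).ι).comp G.e)).comp G.s =
        ((jj P R).comp (RingHom.id _)).comp (LRing.frameData P R).ι := by
      rw [RingHom.comp_assoc, h0]
      rfl
    have h3 := actD_nat P R hs _ _ h0 (jj P R) h2
    have h4 : ((jj P R).comp (((LRing.frameData P R).ι).comp G.e)).comp G.s =
        (((RingHom.id R.L).comp R.γ)).comp G.t := by
      rw [h2]
      rfl
    have h5 := actD_L P R hs ((jj P R).comp (((LRing.frameData P R).ι).comp G.e)) (RingHom.id R.L)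
      (by rw [h2]; rfl) h4
    have h6 : mv P R ((jj P R).comp (((LRing.frameData P R).ι).comp G.e)) (RingHom.id R.L) h4 = RingHom.id R.L := by
      apply mv_id
      rfl
    rw [h6] at h5
    have h7 : (jj P R).comp (actD P R hs (((LRing.frameData P R).ι).comp G.e) (RingHom.id _) h0) =
        (jj P R).comp (RingHom.id _) := by
      rw [h3]
      exact h5
    apply RingHom.ext
    intro d
    exact jj_injective P R (RingHom.congr_fun h7 d)
  have h8 := actD_nat P R hs _ _ h0 φ (by rw [RingHom.comp_assoc, h0]; rfl)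
  rw [h1] at h8
  exact ((actD_congr P R hs rfl (RingHom.comp_id φ).symm _ _).trans h8.symm).trans (RingHom.comp_id φ)

omit [CommRing T] in
theorem cc {A' B' C' T' T'' : Type u} [CommRing A'] [CommRing B'] [CommRing C'] [CommRing T'] [CommRing T'']
    (k : T' →+* T'') {σ : B' →+* T'} {s : A' →+* B'} {φ : C' →+* T'} {ι : A' →+* C'} (e : σ.comp s = φ.comp ι) :
    (k.comp σ).comp s = (k.comp φ).comp ι := by
  rw [RingHom.comp_assoc, e, RingHom.comp_assoc]

/-- composition may be tested after an injection under which `φ` extends to `L` -/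
theorem actD_comp_of_inj {T' : Type u} [CommRing T'] (w : T →+* T') (hw : Function.Injective w) (ψ : R.L →+* T')
    (α β : Γ →+* T) (φ : (LRing.frameData P R).D →+* T) (eφ : w.comp φ = ψ.comp (jj P R))
    (uβ : β.comp G.s = φ.comp (LRing.frameData P R).ι) (uα : α.comp G.s = β.comp G.t)
    (uαβ : (G.comp α β uα).comp G.s = φ.comp (LRing.frameData P R).ι)
    (uαβ' : α.comp G.s = (actD P R hs β φ uβ).comp (LRing.frameData P R).ι) :
    actD P R hs (G.comp α β uα) φ uαβ = actD P R hs α (actD P R hs β φ uβ) uαβ' := by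
  have vα : (w.comp α).comp G.s = (w.comp β).comp G.t := cc w uα
  have vβ : (w.comp β).comp G.s = (ψ.comp (jj P R)).comp (LRing.frameData P R).ι := by
    rw [← eφ]; exact cc w uβ
  have vβ' : (w.comp β).comp G.s = (ψ.comp R.γ).comp G.t := by
    rw [vβ, RingHom.comp_assoc, jj_ι, ← RingHom.comp_assoc]
  have vαβ : (G.comp (w.comp α) (w.comp β) vα).comp G.s = (ψ.comp (jj P R)).comp (LRing.frameData P R).ι := by
    rw [G.comp_s, vβ]
  have vαβ' : (G.comp (w.comp α) (w.comp β) vα).comp G.s = (ψ.comp R.γ).comp G.t := by rw [G.comp_s, vβ']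
  have vα2 : (w.comp α).comp G.s = ((mv P R (w.comp β) ψ vβ').comp R.γ).comp G.t := by rw [mv_γ, G.comp_t, vα]
  have vα3 : (w.comp α).comp G.s = ((mv P R (w.comp β) ψ vβ').comp (jj P R)).comp (LRing.frameData P R).ι := by
    rw [vα2, RingHom.comp_assoc, RingHom.comp_assoc, jj_ι]
  have e1 : w.comp (actD P R hs (G.comp α β uα) φ uαβ) =
      (mv P R (G.comp (w.comp α) (w.comp β) vα) ψ vαβ').comp (jj P R) := by
    rw [actD_nat P R hs _ _ uαβ w (cc w uαβ), ← actD_L P R hs _ ψ vαβ]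
    exact actD_congr P R hs (G.comp_nat w α β uα) eφ _ _
  have e2 : w.comp (actD P R hs β φ uβ) = (mv P R (w.comp β) ψ vβ').comp (jj P R) := by
    rw [actD_nat P R hs _ _ uβ w (cc w uβ), ← actD_L P R hs _ ψ vβ]
    exact actD_congr P R hs rfl eφ _ _
  have e3 : w.comp (actD P R hs α (actD P R hs β φ uβ) uαβ') =
      (mv P R (w.comp α) (mv P R (w.comp β) ψ vβ') vα2).comp (jj P R) := by
    rw [actD_nat P R hs _ _ uαβ' w (cc w uαβ'), ← actD_L P R hs _ (mv P R (w.comp β) ψ vβ') vα3]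
    exact actD_congr P R hs rfl e2 _ _
  have e4 : w.comp (actD P R hs (G.comp α β uα) φ uαβ) =
      w.comp (actD P R hs α (actD P R hs β φ uβ) uαβ') := by
    rw [e1, e3, mv_comp P R (w.comp α) (w.comp β) ψ vβ' vα vαβ' vα2]
  apply RingHom.ext
  intro d
  exact hw (RingHom.congr_fun e4 d)

/-- the composition law is natural -/
theorem actD_comp_map {T' : Type u} [CommRing T'] (w : T →+* T')
    (α β : Γ →+* T) (φ : (LRing.frameData P R).D →+* T)
    (uβ : β.comp G.s = φ.comp (LRing.frameData P R).ι) (uα : α.comp G.s = β.comp G.t)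
    (uαβ : (G.comp α β uα).comp G.s = φ.comp (LRing.frameData P R).ι)
    (uαβ' : α.comp G.s = (actD P R hs β φ uβ).comp (LRing.frameData P R).ι)
    (univ : actD P R hs (G.comp α β uα) φ uαβ = actD P R hs α (actD P R hs β φ uβ) uαβ')
    (α' β' : Γ →+* T') (φ' : (LRing.frameData P R).D →+* T') (wα : w.comp α = α') (wβ : w.comp β = β')
    (wφ : w.comp φ = φ') (hβ : β'.comp G.s = φ'.comp (LRing.frameData P R).ι) (h : α'.comp G.s = β'.comp G.t)
    (h' : (G.comp α' β' h).comp G.s = φ'.comp (LRing.frameData P R).ι)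
    (h'' : α'.comp G.s = (actD P R hs β' φ' hβ).comp (LRing.frameData P R).ι) :
    actD P R hs (G.comp α' β' h) φ' h' = actD P R hs α' (actD P R hs β' φ' hβ) h'' := by
  subst wα wβ wφ
  have f1 : w.comp (actD P R hs (G.comp α β uα) φ uαβ) = actD P R hs (G.comp (w.comp α) (w.comp β) h) (w.comp φ) h' := by
    rw [actD_nat P R hs _ _ uαβ w (cc w uαβ)]
    exact actD_congr P R hs (G.comp_nat w α β uα) rfl _ _
  have f2 : w.comp (actD P R hs β φ uβ) = actD P R hs (w.comp β) (w.comp φ) hβ := actD_nat P R hs _ _ uβ w hβ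
  have f3 : w.comp (actD P R hs α (actD P R hs β φ uβ) uαβ') =
      actD P R hs (w.comp α) (actD P R hs (w.comp β) (w.comp φ) hβ) h'' := by
    rw [actD_nat P R hs _ _ uαβ' w (cc w uαβ')]
    exact actD_congr P R hs rfl f2 _ _
  rw [← f1, ← f3, univ]

/-- `D ⊗_A Γ ⊗_A Γ` -/
noncomputable def D3 : PO ((D2 P R).i₂.comp G.t) G.s := po _ _

/-- `L ⊗_A Γ ⊗_A Γ` -/
noncomputable def L3 : PO ((J2 P R).comp ((D2 P R).i₂.comp G.t)) G.s := po _ _

theorem J3_cond : ((L3 P R).i₁.comp (J2 P R)).comp ((D2 P R).i₂.comp G.t) = (L3 P R).i₂.comp G.s := by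
  rw [RingHom.comp_assoc, (L3 P R).comm]

/-- `D ⊗_A Γ ⊗_A Γ → L ⊗_A Γ ⊗_A Γ` -/
noncomputable def J3 : (D3 P R).P →+* (L3 P R).P :=
  (D3 P R).desc ((L3 P R).i₁.comp (J2 P R)) (L3 P R).i₂ (J3_cond P R)

include hs in
theorem J3_injective : Function.Injective (J3 P R) := po_injective _ _ hs _ (J2_injective P R hs)

theorem J3_i₁ : (J3 P R).comp (D3 P R).i₁ = (L3 P R).i₁.comp (J2 P R) := (D3 P R).desc₁ _ _ _

theorem J3_φ : (J3 P R).comp ((D3 P R).i₁.comp (D2 P R).i₁) = ((L3 P R).i₁.comp (L2 P R).i₁).comp (jj P R) := by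
  apply RingHom.ext
  intro d
  exact (RingHom.congr_fun (J3_i₁ P R) ((D2 P R).i₁ d)).trans
    (congrArg (L3 P R).i₁ (RingHom.congr_fun (J2_i₁ P R) d))

theorem u_β : ((D3 P R).i₁.comp (D2 P R).i₂).comp G.s =
    ((D3 P R).i₁.comp (D2 P R).i₁).comp (LRing.frameData P R).ι := cc _ (D2 P R).comm.symm

theorem u_α : (D3 P R).i₂.comp G.s = ((D3 P R).i₁.comp (D2 P R).i₂).comp G.t := (D3 P R).comm.symm

theorem actD_comp (α β : Γ →+* T) (φ : (LRing.frameData P R).D →+* T)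
    (hβ : β.comp G.s = φ.comp (LRing.frameData P R).ι) (h : α.comp G.s = β.comp G.t)
    (h' : (G.comp α β h).comp G.s = φ.comp (LRing.frameData P R).ι)
    (h'' : α.comp G.s = (actD P R hs β φ hβ).comp (LRing.frameData P R).ι) :
    actD P R hs (G.comp α β h) φ h' = actD P R hs α (actD P R hs β φ hβ) h'' := by
  have hc : ((D2 P R).desc φ β hβ.symm).comp ((D2 P R).i₂.comp G.t) = α.comp G.s := by
    rw [← RingHom.comp_assoc, (D2 P R).desc₂, h]
  refine actD_comp_map P R hs ((D3 P R).desc ((D2 P R).desc φ β hβ.symm) α hc) (D3 P R).i₂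
    ((D3 P R).i₁.comp (D2 P R).i₂) ((D3 P R).i₁.comp (D2 P R).i₁) (u_β P R) (u_α P R)
    (by rw [G.comp_s, u_β]) (by rw [actD_ι, u_α])
    (actD_comp_of_inj P R hs (J3 P R) (J3_injective P R hs) _ _ _ _ (J3_φ P R) _ _ _ _)
    α β φ ((D3 P R).desc₂ _ _ _) ?_ ?_ hβ h h' h''
  · apply RingHom.ext
    intro d
    exact (RingHom.congr_fun ((D3 P R).desc₁ _ _ hc) ((D2 P R).i₂ d)).trans
      (RingHom.congr_fun ((D2 P R).desc₂ φ β hβ.symm) d)
  · apply RingHom.ext
    intro d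
    exact (RingHom.congr_fun ((D3 P R).desc₁ _ _ hc) ((D2 P R).i₁ d)).trans
      (RingHom.congr_fun ((D2 P R).desc₁ φ β hβ.symm) d)

/-- the action on the frame ring -/
noncomputable def frameAct : K111.FrameAct (LRing.frameData P R) where
  act σ φ h := actD P R hs σ φ h
  act_ι σ φ h := actD_ι P R hs σ φ h
  act_Q₁ σ φ h j a := actD_Q₁ P R hs σ φ h j a
  act_μ σ φ h κ b := actD_μ P R hs σ φ h κ b
  act_id φ h := actD_id P R hs φ h
  act_comp α β φ hβ h h' h'' := actD_comp P R hs α β φ hβ h h' h''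

end Frame

/-- **G1B-F3 ACT** -/
theorem stmtFrameAct : K111.StmtFrameAct.{u} := by
  intro A Γ _ _ G X m K _ x P R hs
  exact ⟨frameAct P R hs⟩

end Groth.Agent.ResProp.EF.K726
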